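import Groth.Agent.Lib.SecDiv18.AffCompl
import Groth.Agent.Lib.PointBlowUp32.Exceptional
import Groth.Agent.Lib.DivDesc12.Stalk
import Groth.Agent.Lib.BiratPt18.Main
import Groth.Agent.Lib.TensorMod.IdealMod
import Groth.Agent.Lib.VanFib13.Apply
import Groth.Agent.Lib.CohFound.AffMor
import Groth.Agent.Lib.FormalH7.Power

/-!
# Cohomology of divisors in a fibre
-/

set_option autoImplicit false
set_option linter.style.haveILetI false
set_option maxHeartbeats 1000000
set_option backward.isDefEq.respectTransparency false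
set_option backward.isDefEq.respectTransparency.types false

universe u

open CategoryTheory CategoryTheory.Limits AlgebraicGeometry TopologicalSpace Opposite

noncomputable section

namespace Groth.Agent.ExcH1_18

open CohFound

/-- Over an affine open with fibres of dimension at most one, `H¹` of the structure sheaf surjects onto that of a closed subscheme. -/
theorem subsingleton_closed {Z X E : Scheme.{u}} (g : Z ⟶ X) [IsProper g] {V : X.Opens} (hV : IsAffineOpen V)
    (hd : ∀ v ∈ V, topologicalKrullDim ↥(g ⁻¹' {v} : Set Z) ≤ 1) (t : E ⟶ Z) [IsClosedImmersion t]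
    (h : Subsingleton (Hc ((abF Z).obj (Coh.structureModule Z)) 1 (g ⁻¹ᵁ V))) :
    Subsingleton (Hc ((abF E).obj (Coh.structureModule E)) 1 (t ⁻¹ᵁ g ⁻¹ᵁ V)) := by
  let I := t.ker
  haveI : (Coh.structureModule I.subscheme).IsQuasicoherent := M1.isQCoh_structureModule _
  have hS := M2.shortExact_idealMod I
  haveI : Subsingleton (Hc ((abF Z).obj (ClSub.idealMod I)) 2 (g ⁻¹ᵁ V)) :=
    VanFib13.subsingleton_hc_affine g hV 1 (by simpa using hd) (M2.isQCoh_idealMod I) one_lt_two
  haveI := h
  haveI h3 : Subsingleton (Hc ((abF Z).obj ((Scheme.Modules.pushforward I.subschemeι).obj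
      (Coh.structureModule I.subscheme))) 1 (g ⁻¹ᵁ V)) := by
    refine subsingleton_of_forall_eq 0 fun x => ?_
    obtain ⟨y, hy⟩ := exact₃ (shortExact_abF hS) 1 (g ⁻¹ᵁ V) x (@Subsingleton.elim _ ‹_› _ _)
    rw [← hy, @Subsingleton.elim _ h y 0, map_zero]
  obtain ⟨e⟩ := nonempty_hc_push_isAffineHom I.subschemeι (Coh.structureModule I.subscheme) 1 (g ⁻¹ᵁ V)
  haveI := e.symm.injective.subsingleton
  let j : E ≅ I.subscheme := asIso t.toImage
  obtain ⟨e₁⟩ := nonempty_hc_abF_restrict j.hom (Coh.structureModule I.subscheme) 1 (t ⁻¹ᵁ g ⁻¹ᵁ V)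
  have hpre : j.hom ''ᵁ (t ⁻¹ᵁ g ⁻¹ᵁ V) = I.subschemeι ⁻¹ᵁ g ⁻¹ᵁ V := by
    have ht : j.hom ≫ I.subschemeι = t := t.toImage_imageι
    rw [← ht, Scheme.Hom.comp_preimage, Scheme.Hom.image_preimage_eq_opensRange_inf,
      Scheme.Hom.opensRange_of_isIso, top_inf_eq]
  rw [hpre] at e₁
  exact ((mpEquiv ((abF E).mapIso (Scheme.Modules.restrictUnitIso j.hom)) 1 _).symm.trans e₁).injective.subsingleton

theorem le_one_of_lt_two {d : WithBot ℕ∞} (h : d < 2) : d ≤ 1 := by
  induction d with
  | bot => exact bot_le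
  | coe m =>
    induction m with
    | top => exact absurd h (by exact not_lt.2 le_top)
    | coe n =>
      have : n < 2 := by
        have h' : ((n : ℕ∞) : WithBot ℕ∞) < ((2 : ℕ∞) : WithBot ℕ∞) := h
        exact_mod_cast WithBot.coe_lt_coe.1 h'
      exact_mod_cast Nat.lt_succ_iff.1 this

theorem one_le_of_pos {d : WithBot ℕ∞} (h : 0 < d) : 1 ≤ d := by
  induction d with
  | bot => exact absurd h (not_lt.2 bot_le)
  | coe m =>
    have : (0 : ℕ∞) < m := by exact_mod_cast h
    exact_mod_cast Order.one_le_iff_pos.2 this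

variable {k : Type u} [Field k] {X Y : Scheme.{u}} [IsIntegral X] [IsIntegral Y] [AlgebraicGeometry.IsNoetherian X]
  [AlgebraicGeometry.IsNoetherian Y] (f : Y ⟶ X) [IsProper f] {P : X} (hPc : IsClosed ({P} : Set X))
  (hP : ¬ IsRegularLocalRing (X.presheaf.stalk P)) (hnorm : Pi1.IsNormalScheme X)
  (hregY : ∀ y : Y, IsRegularLocalRing (Y.presheaf.stalk y))
  (hiso : IsIso (f ∣_ ⟨({P} : Set X)ᶜ, hPc.isOpen_compl⟩))

omit [IsIntegral X] [IsIntegral Y] [AlgebraicGeometry.IsNoetherian X] [AlgebraicGeometry.IsNoetherian Y] [IsProper f] in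
include hiso in
theorem finite_fibre_of_ne {x : X} (hx : x ≠ P) : (f ⁻¹' {x}).Subsingleton := fun a ha b hb =>
  haveI := hiso
  PointBlowUp.eq_of_restrict f ⟨({P} : Set X)ᶜ, hPc.isOpen_compl⟩ (a := a) (b := b)
    (show f a ≠ P from fun h => hx (Eq.trans (Eq.symm (ha : f a = x)) h))
    ((ha : f a = x).trans (hb : f b = x).symm)

include hP hnorm hregY hiso in
/-- The exceptional fibre is a divisor. -/
theorem exists_cartier (hdimY : topologicalKrullDim Y = 2) :
    ∃ W : Y.IdealSheafData, PicF.IsInvertible (ClSub.idealMod W) ∧ (W.support : Set Y) = f ⁻¹' {P} ∧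
      (W.support : Set Y).Nonempty ∧ genericPoint Y ∉ (W.support : Set Y) ∧ W ≤ (f.fiberι P).ker := by
  let U : X.Opens := ⟨({P} : Set X)ᶜ, hPc.isOpen_compl⟩
  have hηP : genericPoint X ≠ P := by
    intro h
    refine hP ?_
    haveI : IsField (X.presheaf.stalk (genericPoint X)) → True := fun _ => trivial
    rw [← h]
    exact (show IsRegularLocalRing X.functionField from inferInstance)
  have hU : (U : Set X).Nonempty := ⟨_, hηP⟩
  obtain ⟨hgen, hbir⟩ := BiratPt18.birational_of_isIso_restrict f U hU hiso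
  haveI := hbir
  have hic : ∀ q : X, IsIntegrallyClosed (X.presheaf.stalk q) := fun q => (hnorm q).2
  have hsurj : ∃ y, f y = P := by
    have h := (genericPoint_specializes P).mem_closed f.isClosedMap.isClosed_range ⟨_, hgen⟩
    exact h
  have hbig : ∃ a b : Y, a ≠ b ∧ f a = P ∧ f b = P := by
    by_contra hh
    push Not at hh
    haveI : IsIso f := PointBlowUp.isIso_of_finite_fibres f hnorm hgen fun x => by
      refine Set.Subsingleton.finite fun a ha b hb => ?_
      by_cases hx : x = P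
      · subst hx
        by_contra hab
        exact hh a b hab ha hb
      · exact finite_fibre_of_ne f hPc hiso hx ha hb
    obtain ⟨y, rfl⟩ := hsurj
    haveI := hregY y
    exact hP (IsRegularLocalRing.of_ringEquiv (asIso (f.stalkMap y)).commRingCatIsoToRingEquiv.symm)
  have hnc := RelMin.noChain_of_dim hdimY.le
  let Z : Closeds Y := ⟨f ⁻¹' {P}, hPc.preimage f.continuous⟩
  let I := Scheme.IdealSheafData.vanishingIdeal Z
  have hsupp : (I.support : Set Y) = f ⁻¹' {P} := by simp [I, Z]
  haveI : IsReduced I.subscheme := RedSepLib.isReduced_vanishingIdeal_subscheme Z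
  have hη : genericPoint Y ∉ (I.support : Set Y) := fun h => hηP (hgen.symm.trans (hsupp.le h))
  have h1 : ∀ z : ↥I.subscheme, IsAssociatedPrime (IsLocalRing.maximalIdeal ↑(I.subscheme.presheaf.stalk z))
      ↑(I.subscheme.presheaf.stalk z) → ∀ z' : ↥I.subscheme, z' ⤳ z → z' = z := by
    intro z hz z' hz'
    refine WA.eq_of_specializes_weakAss ?_ hz'
    obtain ⟨-, m, hm⟩ := hz
    have hm0 : m ≠ 0 := by
      intro h0
      refine (IsLocalRing.maximalIdeal.isMaximal (I.subscheme.presheaf.stalk z)).ne_top (hm.trans ?_)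
      rw [Ideal.radical_eq_top, eq_top_iff]
      exact fun c _ => by rw [Submodule.mem_colon_singleton, Submodule.mem_bot, h0, smul_zero]
    obtain ⟨V, hV, hzV, -⟩ := exists_isAffineOpen_mem_and_subset (U := (⊤ : I.subscheme.Opens)) (x := z) trivial
    let := TopCat.Presheaf.algebra_section_stalk I.subscheme.presheaf (⟨z, hzV⟩ : V)
    have := hV.isLocalization_stalk ⟨z, hzV⟩
    obtain ⟨⟨t, c⟩, htc⟩ := IsLocalization.surj (hV.primeIdealOf ⟨z, hzV⟩).asIdeal.primeCompl m
    have hcu : IsUnit (I.subscheme.presheaf.germ V z hzV c) := (M1.isUnit_germ_iff hV hzV c).mpr c.2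
    have htc : m * I.subscheme.presheaf.germ V z hzV c = I.subscheme.presheaf.germ V z hzV t := htc
    refine WA.isWeakAssPoint_of_section hV hzV (show Γ(Coh.structureModule I.subscheme, V) from t) (fun h0 => hm0 ?_) fun b hb => ?_
    · exact hcu.mul_left_eq_zero.mp (htc.trans ((WA.germ_O_eq_zero_iff hzV t).mp h0))
    · have hbm : I.subscheme.presheaf.germ V z hzV b ∈ IsLocalRing.maximalIdeal _ := (IsLocalRing.mem_maximalIdeal _).mpr hb
      rw [hm] at hbm
      obtain ⟨n, hk⟩ := hbm
      rw [Submodule.mem_colon_singleton, Submodule.mem_bot, smul_eq_mul] at hk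
      refine ⟨n, (WA.germ_O_eq_zero_iff hzV _).mpr ?_⟩
      change I.subscheme.presheaf.germ V z hzV (b ^ n * t) = 0
      rw [map_mul, map_pow, ← htc, ← mul_assoc, hk, zero_mul]
  have h2 : ∀ z : ↥I.subscheme, (∀ z' : ↥I.subscheme, z' ⤳ z → z' = z) →
      ringKrullDim (Y.presheaf.stalk (I.subschemeι z)) = 1 := by
    intro z hz
    have hzP : f (I.subschemeι z) = P := hsupp.le (I.range_subschemeι.le ⟨z, rfl⟩)
    have hmax : ∀ w, w ⤳ I.subschemeι z → f w = P → w = I.subschemeι z := fun w hw hwP => by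
      obtain ⟨w', rfl⟩ : w ∈ Set.range I.subschemeι := I.range_subschemeι.ge (hsupp.ge hwP)
      rw [hz w' ((I.subschemeι.isClosedEmbedding.isEmbedding.isInducing.specializes_iff).mp hw)]
    have hncl : ¬ IsClosed ({I.subschemeι z} : Set Y) := fun hc => by
      obtain ⟨w, hw, hne, hwP⟩ := RelMin.exists_generization_in_fibre f hgen hic hPc hbig hzP hc
      exact hne (hmax w hw hwP)
    have hneη : genericPoint Y ≠ I.subschemeι z := fun h => hη (h ▸ I.range_subschemeι.le ⟨z, rfl⟩)
    obtain ⟨c, hc, hcc⟩ := (isClosed_closure (s := ({I.subschemeι z} : Set Y))).exists_closed_singleton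
      ⟨_, subset_closure rfl⟩
    have hzc : I.subschemeι z ≠ c := fun h => hncl (h ▸ hcc)
    have hlt1 := DivDesc12.ringKrullDim_stalk_lt (genericPoint_specializes (I.subschemeι z)) hneη
    have hlt2 := (DivDesc12.ringKrullDim_stalk_lt (specializes_iff_mem_closure.2 hc) hzc).trans_le
      (RelMin.ringKrullDim_stalk_le hnc c)
    have h0 := ringKrullDim_nonneg_of_nontrivial (R := Y.presheaf.stalk (genericPoint Y))
    have hlow := lt_of_le_of_lt h0 hlt1
    refine le_antisymm ?_ ?_
    · exact le_one_of_lt_two hlt2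
    · exact one_le_of_pos hlow
  have hcart : BlowUp.IsEffCartierIdeal I := by
    intro x
    by_cases hx : x ∈ I.support
    · haveI := hregY x
      haveI := RegLoc.isDomain (Y.presheaf.stalk x)
      haveI := RegLoc.ufd_of_isRegularLocalRing (Y.presheaf.stalk x)
      obtain ⟨V, hV, hxV, -⟩ := exists_isAffineOpen_mem_and_subset (U := (⊤ : Y.Opens)) (x := x) trivial
      obtain ⟨g, hg, hJ⟩ := SecDiv.principal_of_ass ((I.ideal ⟨V, hV⟩).map (Y.presheaf.germ V x hxV).hom)
        (SecDiv.exists_prime_of_ass I h1 h2 ⟨V, hV⟩ hxV inferInstance inferInstance)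
      exact SecDiv.exists_eqn_of_stalk I ⟨V, hV⟩ hxV g (mem_nonZeroDivisors_of_ne_zero hg) hJ
    · obtain ⟨V, hV, hxV, hVs⟩ := exists_isAffineOpen_mem_and_subset (U := I.support.compl) (x := x) hx
      refine ⟨⟨V, hV⟩, hxV, 1, one_mem _, ?_⟩
      rw [Ideal.span_singleton_one]
      by_contra hne
      obtain ⟨Q, hQ, hle⟩ := Ideal.exists_le_maximal _ hne
      obtain ⟨y, hy, hyu⟩ := WA.exists_point hV Q
      refine hVs hy ?_
      rw [SetLike.mem_coe, Scheme.IdealSheafData.mem_support_iff_of_mem (U := ⟨V, hV⟩) hy, Scheme.mem_zeroLocus_iff]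
      exact fun a ha hya => (hyu a).mp ((Y.mem_basicOpen a y hy).mp hya) (hle ha)
  obtain ⟨n, hn⟩ := FormalH7.exists_pow_le_of_support_le I (f.fiberι P).ker (fun y hy => hsupp.ge (by
    rw [Scheme.Hom.support_ker, Scheme.Hom.range_fiberι] at hy
    exact (hPc.preimage f.continuous).closure_subset_iff.2 subset_rfl hy))
  have hs : ((I ^ (n + 1)).support : Set Y) = f ⁻¹' {P} := by
    rw [Scheme.IdealSheafData.support_pow _ (n + 1) n.succ_pos.ne', hsupp]
  obtain ⟨y, hy⟩ := hsurj
  exact ⟨I ^ (n + 1), M2.isInvertible_idealMod _ (BlowUpExist.isEffCartierIdeal_pow hcart _), hs,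
    ⟨y, hs.ge hy⟩, fun h => hη (hsupp.ge (hs.le h)), hn⟩

end Groth.Agent.ExcH1_18
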