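import Groth.Agent.Lib.ExcH1_18.Basic
import Groth.Agent.Lib.Contr18.Apply
import Groth.Agent.Lib.ArithLW25.SchemeZ

/-!
# Triviality of `R¹` on exceptional divisors
-/

set_option autoImplicit false
set_option linter.style.haveILetI false
set_option maxHeartbeats 1000000
set_option backward.isDefEq.respectTransparency false
set_option backward.isDefEq.respectTransparency.types false

universe u

open CategoryTheory CategoryTheory.Limits AlgebraicGeometry TopologicalSpace Opposite

noncomputable section

namespace Groth.Agent.ExcH1_18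

open CohFound

theorem isClosedImmersion_fiberι {X Y : Scheme.{u}} (f : Y ⟶ X) {P : X} (hPc : IsClosed ({P} : Set X)) :
    IsClosedImmersion (f.fiberι P) := by
  haveI : IsClosedImmersion (X.fromSpecResidueField P) := IsClosedImmersion.of_isPreimmersion _
    (by rw [Scheme.range_fromSpecResidueField]; exact hPc)
  exact MorphismProperty.pullback_fst (P := @IsClosedImmersion) _ _ inferInstance

theorem dim_le_zero_of_subsingleton {T : Type*} [TopologicalSpace T] [Subsingleton T] :
    topologicalKrullDim T ≤ 0 :=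
  topologicalKrullDim_zero_of_discreteTopology T

/-- The structure sheaf over the whole of a closed subscheme. -/
theorem subsingleton_HH_quotMod_iff {Y : Scheme.{u}} (W : Y.IdealSheafData) (n : ℕ) :
    Subsingleton (Coh.HH Y (ClSub.quotMod W) n) ↔
      Subsingleton (Hc ((abF W.subscheme).obj (Coh.structureModule W.subscheme)) n ⊤) := by
  haveI : (Coh.structureModule W.subscheme).IsQuasicoherent := M1.isQCoh_structureModule _
  obtain ⟨e⟩ := nonempty_hc_push_isAffineHom W.subschemeι (Coh.structureModule W.subscheme) n ⊤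
  exact ((hhExt (ClSub.quotMod W) n).trans e).toEquiv.subsingleton_congr

variable {X Y : Scheme.{u}} [IsIntegral X] [IsIntegral Y] [AlgebraicGeometry.IsNoetherian X]
  [AlgebraicGeometry.IsNoetherian Y] (f : Y ⟶ X) [IsProper f] {P : X} (hPc : IsClosed ({P} : Set X))
  (hP : ¬ IsRegularLocalRing (X.presheaf.stalk P)) (hnorm : Pi1.IsNormalScheme X)
  (hregY : ∀ y : Y, IsRegularLocalRing (Y.presheaf.stalk y))
  (hiso : IsIso (f ∣_ ⟨({P} : Set X)ᶜ, hPc.isOpen_compl⟩)) (hdimY : topologicalKrullDim Y = 2)

include hP hnorm hregY hiso hdimY in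
theorem dim_fibre_le (x : X) : topologicalKrullDim ↥(f ⁻¹' {x} : Set Y) ≤ 1 := by
  by_cases hx : x = P
  · subst hx
    obtain ⟨W, -, hs, -, hη, -⟩ := exists_cartier f hPc hP hnorm hregY hiso hdimY
    have hne : f ⁻¹' {x} ≠ Set.univ := fun h => hη (by rw [hs, h]; trivial)
    refine (ArithLW25.dim_closed_lt (hPc.preimage f.continuous) hne (s := 1) ?_).trans (by simp)
    rw [hdimY]; norm_num
  · haveI := (finite_fibre_of_ne f hPc hiso hx).coe_sort
    exact dim_le_zero_of_subsingleton.trans zero_le_one

include hP hnorm hregY hiso hdimY in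
theorem h1_of_R1 (hR : IsZero ((Coh.RpushAb f 1).obj (Coh.toAb (Coh.structureModule Y)))) (W : Y.IdealSheafData)
    (hW : (W.support : Set Y) ⊆ f ⁻¹' {P}) : Subsingleton (Coh.HH Y (ClSub.quotMod W) 1) := by
  rw [subsingleton_HH_quotMod_iff]
  obtain ⟨V, hV, hPV, -⟩ := exists_isAffineOpen_mem_and_subset (X := X) (x := P) (U := ⊤) trivial
  obtain ⟨e⟩ := nonempty_sections_rpushAb f (M1.isQCoh_structureModule Y) 1 hV
  have hz : IsZero ((((CohTop.Rpush (f.base : sp Y ⟶ sp X) 1).obj ((abF Y).obj (Coh.structureModule Y))).obj).obj (op V)) :=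
    ((sheafToPresheaf _ _) ⋙ (evaluation _ _).obj (op V)).map_isZero hR
  haveI := AddCommGrpCat.subsingleton_of_isZero hz
  have h := subsingleton_closed f hV (fun v _ => dim_fibre_le f hPc hP hnorm hregY hiso hdimY v) W.subschemeι
    e.symm.injective.subsingleton
  have htop : W.subschemeι ⁻¹ᵁ f ⁻¹ᵁ V = ⊤ := top_le_iff.1 fun z _ => by
    show f (W.subschemeι z) ∈ V
    rw [show f (W.subschemeι z) = P from hW (W.range_subschemeι.le ⟨z, rfl⟩)]
    exact hPV
  rwa [htop] at h

include hP hnorm hregY hiso hdimY in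
theorem R1_of_h1 (h : ∀ W : Y.IdealSheafData, PicF.IsInvertible (ClSub.idealMod W) → (W.support : Set Y).Nonempty →
      (W.support : Set Y) ⊆ f ⁻¹' {P} → Subsingleton (Coh.HH Y (ClSub.quotMod W) 1)) :
    IsZero ((Coh.RpushAb f 1).obj (Coh.toAb (Coh.structureModule Y))) := by
  obtain ⟨W, hWi, hs, hne, -, hle⟩ := exists_cartier f hPc hP hnorm hregY hiso hdimY
  have hWh := (subsingleton_HH_quotMod_iff W 1).1 (h W hWi hne hs.le)
  have hfib : ∀ w : X, topologicalKrullDim ↥(f.fiber w) ≤ 1 ∧
      Subsingleton (Coh.HH (f.fiber w) (Coh.structureModule (f.fiber w)) 1) := fun w => by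
    refine ⟨by rw [VanFib13.dim_fiber]; exact dim_fibre_le f hPc hP hnorm hregY hiso hdimY w, ?_⟩
    refine (hhExt (Coh.structureModule (f.fiber w)) 1).toEquiv.subsingleton_congr.2 ?_
    by_cases hw : w = P
    · subst hw
      haveI := isClosedImmersion_fiberι f hPc
      let t : f.fiber w ⟶ W.subscheme := (f.fiberι w).toImage ≫ Scheme.IdealSheafData.inclusion hle
      haveI : IsClosedImmersion t := inferInstance
      obtain ⟨V, hV, hPV, -⟩ := exists_isAffineOpen_mem_and_subset (X := X) (x := w) (U := ⊤) trivial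
      let g : W.subscheme ⟶ X := W.subschemeι ≫ f
      have htop : g ⁻¹ᵁ V = ⊤ := top_le_iff.1 fun z _ => by
        show f (W.subschemeι z) ∈ V
        rw [show f (W.subschemeι z) = w from hs.le (W.range_subschemeι.le ⟨z, rfl⟩)]
        exact hPV
      have := subsingleton_closed g hV (fun v _ => ?_) t (by rw [htop]; exact hWh)
      · rwa [htop] at this
      refine le_trans (Topology.IsInducing.topologicalKrullDim_le
        (f := fun z : ↥(g ⁻¹' {v} : Set W.subscheme) => (⟨W.subschemeι z.1, z.2⟩ : ↥(f ⁻¹' {v} : Set Y))) ?_)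
        (dim_fibre_le f hPc hP hnorm hregY hiso hdimY v)
      exact Topology.IsInducing.of_comp ((W.subschemeι.continuous.comp continuous_subtype_val).subtype_mk _)
        continuous_subtype_val (W.subschemeι.isClosedEmbedding.isInducing.comp Topology.IsInducing.subtypeVal)
    · haveI : Subsingleton ↥(f.fiber w) := ⟨fun a b => (f.fiberι w).isEmbedding.injective
        (finite_fibre_of_ne f hPc hiso hw ((f.range_fiberι w).le ⟨a, rfl⟩) ((f.range_fiberι w).le ⟨b, rfl⟩))⟩
      haveI : IsProper (f.fiberToSpecResidueField w) := MorphismProperty.pullback_snd (P := @IsProper) _ _ inferInstance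
      exact VanFib13.subsingleton_of_fibreDim (f.fiberToSpecResidueField w) 0
        (fun _ => dim_le_zero_of_subsingleton) (M1.isQCoh_structureModule _) one_pos
  refine isZero_rpushAb_of_cover f _ (M1.isQCoh_structureModule Y) (fun U : X.affineOpens => U.1) (fun U => U.2)
    (fun y => ?_) 1 fun U => ?_
  · obtain ⟨V, hV, hyV, -⟩ := exists_isAffineOpen_mem_and_subset (X := X) (x := y) (U := ⊤) trivial
    exact ⟨⟨V, hV⟩, hyV⟩
  · exact (hhExt _ 1).toEquiv.subsingleton_congr.1
      (Contr18.subsingleton_HHon_of_fibres f U.2 (fun w _ => (hfib w).1) (fun w _ => (hfib w).2))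

end Groth.Agent.ExcH1_18
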